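/-
Finite groups with an element `x` of prime order `p` with `C(x) = ⟨x⟩` (namespace `Cfsg.Agent.SelfCentPrime`).

Main results:
* `exists_sylow`, `card_sylow_subgroup_set`: `⟨x⟩` is a Sylow subgroup of order `p`
* `card_classes_mul`: (number of classes of elements of order `p`) * [N(⟨x⟩):⟨x⟩] = p - 1
* `commutator_le_of_dvd_card`, `le_commutator_of_not_dvd_card`, `mem_zpowers_sup`: normal subgroups
* `derived_two_le`, `index_commutator_dvd`, `eq_or_le_of_normal_in_derived`
-/
import Cfsg.Agent.EqLemmas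

set_option autoImplicit false
set_option linter.unusedSectionVars false

namespace Cfsg.Agent.SelfCentPrime

open Subgroup
open scoped Pointwise

variable {G : Type*} [Group G] [Finite G] {p : ℕ} {x : G}

section
variable (hp : p.Prime) (hx : orderOf x = p)
  (hC : Subgroup.centralizer ({x} : Set G) = Subgroup.zpowers x)
include hp hx hC

omit [Finite G] in
theorem mem_of_comm {g : G} (h : g * x = x * g) : g ∈ zpowers x := by
  rw [← hC, mem_centralizer_singleton_iff]; exact h

/-- `⟨x⟩` is a Sylow subgroup. -/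
theorem exists_sylow : ∃ S : Sylow p G, (S : Subgroup G) = zpowers x := by
  have := Fact.mk hp
  have hP : IsPGroup p (zpowers x) := IsPGroup.of_card (n := 1) (by rw [Nat.card_zpowers, hx, pow_one])
  obtain ⟨S, hS⟩ := hP.exists_le_sylow
  refine ⟨S, le_antisymm ?_ hS⟩
  have hne : Nontrivial (S : Subgroup G) :=
    ⟨⟨x, hS (mem_zpowers x)⟩, 1, fun h => by
      have : x = 1 := congrArg Subtype.val h
      rw [this, orderOf_one] at hx; exact hp.one_lt.ne hx⟩
  obtain ⟨z, hz⟩ := @exists_ne _ S.isPGroup'.center_nontrivial (1 : center (S : Subgroup G))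
  have hzc : ∀ s ∈ (S : Subgroup G), s * ((z : (S : Subgroup G)) : G) = ((z : (S : Subgroup G)) : G) * s :=
    fun s hs => congrArg Subtype.val (mem_center_iff.mp z.2 ⟨s, hs⟩)
  have hzP : ((z : (S : Subgroup G)) : G) ∈ zpowers x := mem_of_comm hp hx hC (hzc x (hS (mem_zpowers x))).symm
  have hgen : zpowers ((z : (S : Subgroup G)) : G) = zpowers x := by
    apply eq_of_le_of_card_ge (zpowers_le.mpr hzP)
    rw [Nat.card_zpowers, Nat.card_zpowers, hx]
    have hd : orderOf ((z : (S : Subgroup G)) : G) ∣ p := by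
      have := orderOf_dvd_natCard (⟨_, hzP⟩ : zpowers x)
      rw [Nat.card_zpowers, hx] at this
      simpa [orderOf_mk] using this
    rcases (Nat.dvd_prime hp).mp hd with h | h
    · exact absurd (Subtype.ext (Subtype.ext (orderOf_eq_one_iff.mp h))) hz
    · exact h.ge
  intro s hs
  rw [← hC, mem_centralizer_singleton_iff]
  have : x ∈ centralizer {s} := by
    have : zpowers ((z : (S : Subgroup G)) : G) ≤ centralizer {s} :=
      zpowers_le.mpr (mem_centralizer_singleton_iff.mpr (hzc s hs).symm)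
    exact this (hgen ▸ mem_zpowers x)
  exact (mem_centralizer_singleton_iff.mp this).symm

theorem card_sylow (Q : Sylow p G) : Nat.card (Q : Subgroup G) = p := by
  have := Fact.mk hp
  obtain ⟨S, hS⟩ := exists_sylow hp hx hC
  have h := S.card_eq_multiplicity
  have h' : Nat.card (S : Subgroup G) = p := by rw [hS, Nat.card_zpowers, hx]
  rw [Q.card_eq_multiplicity, ← h, h']

theorem prime_dvd_card : p ∣ Nat.card G := hx ▸ orderOf_dvd_natCard x

theorem not_sq_dvd : ¬ p ^ 2 ∣ Nat.card G := by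
  have := Fact.mk hp
  obtain ⟨S, hS⟩ := exists_sylow hp hx hC
  intro h
  have h' : Nat.card (S : Subgroup G) = p := by rw [hS, Nat.card_zpowers, hx]
  rw [S.card_eq_multiplicity] at h'
  have h1 : (Nat.card G).factorization p = 1 :=
    Nat.pow_right_injective hp.two_le (h'.trans (pow_one p).symm)
  have := (hp.pow_dvd_iff_le_factorization Nat.card_pos.ne').mp h
  omega

theorem zpowers_eq_of_card {H : Subgroup G} (hH : Nat.card H = p) :
    ∃ g : G, (zpowers x).map (MulAut.conj g).toMonoidHom = H := by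
  have := Fact.mk hp
  obtain ⟨S, hS⟩ := exists_sylow hp hx hC
  obtain ⟨Q, hQ⟩ := (IsPGroup.of_card (n := 1) (by rw [hH, pow_one]) : IsPGroup p H).exists_le_sylow
  have hQH : (Q : Subgroup G) = H :=
    (eq_of_le_of_card_ge hQ (by rw [card_sylow hp hx hC, hH])).symm
  obtain ⟨g, hg⟩ := MulAction.exists_smul_eq G S Q
  exact ⟨g, by rw [← hQH, ← hg, ← hS]; rfl⟩

/-- The number of subgroups of order `p` is the index of the normalizer. -/
theorem card_sylow_subgroup_set :
    Nat.card {H : Subgroup G // Nat.card H = p} = (normalizer (zpowers x : Set G)).index := by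
  have := Fact.mk hp
  obtain ⟨S, hS⟩ := exists_sylow hp hx hC
  rw [← hS]
  show _ = (normalizer ((S : Subgroup G) : Set G)).index
  erw [← S.card_eq_index_normalizer]
  refine (Nat.card_congr (Equiv.ofBijective
    (fun Q : Sylow p G => (⟨Q, card_sylow hp hx hC Q⟩ : {H : Subgroup G // Nat.card H = p})) ⟨?_, ?_⟩)).symm
  · exact fun A B h => Sylow.ext (congrArg Subtype.val h)
  · rintro ⟨H, hH⟩
    obtain ⟨Q, hQ⟩ := (IsPGroup.of_card (n := 1) (by rw [hH, pow_one]) : IsPGroup p H).exists_le_sylow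
    exact ⟨Q, Subtype.ext ((eq_of_le_of_card_ge hQ (by rw [card_sylow hp hx hC, hH])).symm)⟩

theorem comm_mem {n m : G} (hn : n ∈ normalizer (zpowers x : Set G))
    (hm : m ∈ normalizer (zpowers x : Set G)) : n * m * n⁻¹ * m⁻¹ ∈ zpowers x := by
  obtain ⟨a, ha⟩ := mem_zpowers_iff.mp ((mem_normalizer_iff.mp hn x).mp (mem_zpowers x))
  obtain ⟨b, hb⟩ := mem_zpowers_iff.mp ((mem_normalizer_iff.mp hm x).mp (mem_zpowers x))
  have hnm : n * m * x * (n * m)⁻¹ = x ^ (a * b) := by
    rw [zpow_mul, ha, conj_zpow, hb]; group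
  have hmn : m * n * x * (m * n)⁻¹ = x ^ (a * b) := by
    rw [mul_comm a b, zpow_mul, hb, conj_zpow, ha]; group
  have hw : (m * n)⁻¹ * (n * m) ∈ zpowers x := by
    apply mem_of_comm hp hx hC
    calc (m * n)⁻¹ * (n * m) * x = (m * n)⁻¹ * (n * m * x * (n * m)⁻¹) * (n * m) := by group
      _ = (m * n)⁻¹ * (m * n * x * (m * n)⁻¹) * (n * m) := by rw [hnm, hmn]
      _ = x * ((m * n)⁻¹ * (n * m)) := by group
  have := (mem_normalizer_iff.mp (mul_mem hm hn) _).mp hw
  convert this using 1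
  group

theorem self_ne_one : x ≠ 1 := fun h => hp.one_lt.ne (by rw [← hx, h, orderOf_one])

theorem exists_pow_eq_of_ne_one {y : G} (hy : y ∈ zpowers x) (h1 : y ≠ 1) : x ∈ zpowers y := by
  have := Fact.mk hp
  have h : zpowers y = zpowers x := by
    apply eq_of_le_of_card_ge (zpowers_le.mpr hy)
    have hd : orderOf y ∣ p := by
      have := orderOf_dvd_natCard (⟨y, hy⟩ : zpowers x)
      rwa [Nat.card_zpowers, hx, orderOf_mk] at this
    rcases (Nat.dvd_prime hp).mp hd with h | h
    · exact absurd (orderOf_eq_one_iff.mp h) h1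
    · rw [Nat.card_zpowers, Nat.card_zpowers, hx, h]
  exact h ▸ mem_zpowers x

theorem orderOf_eq_iff_mem {y : G} (hy : y ∈ zpowers x) : orderOf y = p ↔ y ≠ 1 := by
  refine ⟨fun h e => hp.one_lt.ne (by rw [← h, e, orderOf_one]), fun h1 => ?_⟩
  have h : zpowers y = zpowers x :=
    le_antisymm (zpowers_le.mpr hy) (zpowers_le.mpr (exists_pow_eq_of_ne_one hp hx hC hy h1))
  rw [← Nat.card_zpowers, h, Nat.card_zpowers, hx]

theorem conj_mem_iff {y g : G} (hy : y ∈ zpowers x) (h1 : y ≠ 1) :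
    g * y * g⁻¹ ∈ zpowers x ↔ g ∈ normalizer (zpowers x : Set G) := by
  refine ⟨fun h => ?_, fun h => (mem_normalizer_iff.mp h y).mp hy⟩
  have hmap : (zpowers x).map (MulAut.conj g).toMonoidHom ≤ zpowers x := by
    have hxy : zpowers x = zpowers y :=
      le_antisymm (zpowers_le.mpr (exists_pow_eq_of_ne_one hp hx hC hy h1)) (zpowers_le.mpr hy)
    conv_lhs => rw [hxy, MonoidHom.map_zpowers]
    exact zpowers_le.mpr h
  have heq : (zpowers x).map (MulAut.conj g).toMonoidHom = zpowers x :=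
    eq_of_le_of_card_ge hmap (Nat.card_congr ((zpowers x).equivMapOfInjective _ (MulEquiv.injective _)).toEquiv).le
  rw [mem_normalizer_iff]
  intro z
  refine ⟨fun hz => hmap (mem_map_of_mem _ hz), fun hz => ?_⟩
  rw [← heq] at hz
  obtain ⟨w, hw, hwz⟩ := mem_map.mp hz
  have : w = z := by simpa using hwz
  exact this ▸ hw

/-- The number of classes of elements of order `p` times `[N(⟨x⟩) : ⟨x⟩]` is `p - 1`. -/
theorem card_classes_mul :
    Nat.card {C : ConjClasses G // ∃ g ∈ C.carrier, orderOf g = p} *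
      (zpowers x).relIndex (normalizer (zpowers x : Set G)) = p - 1 := by
  classical
  have := Fintype.ofFinite G
  let A := {y : G // y ∈ zpowers x ∧ y ≠ 1}
  let T := {C : ConjClasses G // ∃ g ∈ C.carrier, orderOf g = p}
  let f : A → T := fun y => ⟨ConjClasses.mk y.1, y.1, ConjClasses.mem_carrier_mk,
    (orderOf_eq_iff_mem hp hx hC y.2.1).mpr y.2.2⟩
  have hA : Nat.card A = p - 1 := by
    have e : A ≃ {y : zpowers x // y ≠ 1} :=
      { toFun := fun y => ⟨⟨y.1, y.2.1⟩, fun h => y.2.2 (congrArg Subtype.val h)⟩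
        invFun := fun y => ⟨y.1.1, y.1.2, fun h => y.2 (Subtype.ext h)⟩
        left_inv := fun y => rfl
        right_inv := fun y => rfl }
    rw [Nat.card_congr e, Nat.card_eq_fintype_card, Fintype.card_subtype_compl,
      Fintype.card_subtype_eq, ← Nat.card_eq_fintype_card, Nat.card_zpowers, hx]
  have hfib : ∀ C : T, Nat.card {y : A // f y = C} =
      (zpowers x).relIndex (normalizer (zpowers x : Set G)) := by
    rintro ⟨C, g, hgC, hg⟩
    obtain ⟨c, hc⟩ := zpowers_eq_of_card hp hx hC (H := zpowers g) (by rw [Nat.card_zpowers, hg])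
    have hmemg : g ∈ (zpowers x).map (MulAut.conj c).toMonoidHom := hc ▸ mem_zpowers g
    obtain ⟨y₀, hy₀, hy₀g⟩ := mem_map.mp hmemg
    have hy₀g' : c * y₀ * c⁻¹ = g := by simpa using hy₀g
    have hy₁ : y₀ ≠ 1 := by
      rintro rfl; rw [map_one] at hy₀g; rw [← hy₀g, orderOf_one] at hg; exact hp.one_lt.ne hg
    have hC' : C = ConjClasses.mk y₀ := by
      rw [← ConjClasses.mem_carrier_iff_mk_eq.mp hgC]
      exact (ConjClasses.mk_eq_mk_iff_isConj.mpr (isConj_iff.mpr ⟨c, hy₀g'⟩)).symm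
    let N := normalizer (zpowers x : Set G)
    let F : N ⧸ (zpowers x).subgroupOf N → {y : A // f y = ⟨C, g, hgC, hg⟩} :=
      Quotient.lift
        (fun n => ⟨⟨n.1 * y₀ * n.1⁻¹, (mem_normalizer_iff.mp n.2 _).mp hy₀,
          fun h => hy₁ (conj_eq_one_iff.mp h)⟩, Subtype.ext
              ((ConjClasses.mk_eq_mk_iff_isConj.mpr (isConj_iff.mpr ⟨n.1, rfl⟩)).symm.trans hC'.symm)⟩)
        (fun n m hnm => Subtype.ext (Subtype.ext (by
          replace hnm := QuotientGroup.leftRel_apply.mp hnm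
          rw [mem_subgroupOf] at hnm
          obtain ⟨i, hi⟩ := mem_zpowers_iff.mp hnm
          obtain ⟨j, hj⟩ := mem_zpowers_iff.mp hy₀
          have h2 : (m : G) = n * x ^ i := by rw [hi]; simp
          show n.1 * y₀ * n.1⁻¹ = m.1 * y₀ * m.1⁻¹
          rw [h2, ← hj]; group)))
    rw [show (zpowers x).relIndex (normalizer (zpowers x : Set G)) =
        Nat.card (N ⧸ (zpowers x).subgroupOf N) from rfl]
    refine (Nat.card_congr (Equiv.ofBijective F ⟨?_, ?_⟩)).symm
    · intro a b
      induction a using QuotientGroup.induction_on with | H n => ?_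
      induction b using QuotientGroup.induction_on with | H m => ?_
      intro hnm
      have hnm' : n.1 * y₀ * n.1⁻¹ = m.1 * y₀ * m.1⁻¹ :=
        congrArg (fun z => z.1.1) hnm
      refine QuotientGroup.eq.mpr ?_
      rw [mem_subgroupOf]
      apply mem_of_comm hp hx hC
      obtain ⟨j, hj⟩ := mem_zpowers_iff.mp (exists_pow_eq_of_ne_one hp hx hC hy₀ hy₁)
      have hcomm : Commute ((n : G)⁻¹ * m) y₀ := by
        show (n : G)⁻¹ * m * y₀ = y₀ * ((n : G)⁻¹ * m)
        calc (n : G)⁻¹ * m * y₀ = (n : G)⁻¹ * (m.1 * y₀ * m.1⁻¹) * m := by group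
          _ = _ := by rw [← hnm']; group
      exact (hj ▸ hcomm.zpow_right j).eq
    · rintro ⟨⟨y, hy, hy1⟩, hyC⟩
      have hyC' : ConjClasses.mk y = C := congrArg Subtype.val hyC
      obtain ⟨d, hd⟩ := isConj_iff.mp (ConjClasses.mk_eq_mk_iff_isConj.mp (hC' ▸ hyC')).symm
      have hdN : d ∈ N := (conj_mem_iff hp hx hC hy₀ hy₁).mp (by rw [hd]; exact hy)
      exact ⟨QuotientGroup.mk ⟨d, hdN⟩, Subtype.ext (Subtype.ext hd)⟩
  have := Fintype.ofFinite T
  rw [← hA, ← Nat.card_congr (Equiv.sigmaFiberEquiv f), Nat.card_sigma, Finset.sum_congr rfl fun C _ => hfib C,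
    Finset.sum_const, Finset.card_univ, ← Nat.card_eq_fintype_card, smul_eq_mul]

theorem relIndex_ne_zero : (zpowers x).relIndex (normalizer (zpowers x : Set G)) ≠ 0 := by
  intro h
  have := card_classes_mul hp hx hC
  rw [h, mul_zero] at this
  have := hp.two_le
  omega

variable {S : Subgroup G} [S.Normal]

theorem zpowers_le_of_dvd_card (h : p ∣ Nat.card S) : zpowers x ≤ S := by
  have := Fact.mk hp
  obtain ⟨g, hg⟩ := exists_prime_orderOf_dvd_card' (G := S) p h
  have hg' : Nat.card (zpowers (g : G)) = p := by rw [Nat.card_zpowers, orderOf_coe, hg]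
  obtain ⟨c, hc⟩ := zpowers_eq_of_card hp hx hC hg'
  have hle : (zpowers x).map (MulAut.conj c).toMonoidHom ≤ S := hc ▸ zpowers_le.mpr g.2
  intro y hy
  have : c * y * c⁻¹ ∈ S := by simpa using hle (mem_map_of_mem _ hy)
  have h2 := (inferInstance : S.Normal).conj_mem _ this c⁻¹
  simpa [mul_assoc] using h2

theorem normalizer_sup_eq_top (h : p ∣ Nat.card S) :
    normalizer (zpowers x : Set G) ⊔ S = ⊤ := by
  have := Fact.mk hp
  obtain ⟨P, hP⟩ := exists_sylow hp hx hC
  have := Sylow.normalizer_sup_eq_top' P (N := S) (hP.le.trans (zpowers_le_of_dvd_card hp hx hC h))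
  rw [← hP]
  exact this

/-- A normal subgroup of order divisible by `p` contains the derived subgroup. -/
theorem commutator_le_of_dvd_card (h : p ∣ Nat.card S) : commutator G ≤ S := by
  rw [commutator_def, Subgroup.commutator_le]
  intro a _ b _
  have ha : a ∈ normalizer (zpowers x : Set G) ⊔ S := normalizer_sup_eq_top hp hx hC h ▸ mem_top a
  have hb : b ∈ normalizer (zpowers x : Set G) ⊔ S := normalizer_sup_eq_top hp hx hC h ▸ mem_top b
  obtain ⟨n, hn, s, hs, rfl⟩ := mem_sup_of_normal_right.mp ha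
  obtain ⟨m, hm, r, hr, rfl⟩ := mem_sup_of_normal_right.mp hb
  rw [← QuotientGroup.eq_one_iff, commutatorElement_def]
  simp only [QuotientGroup.mk_mul, QuotientGroup.mk_inv, (QuotientGroup.eq_one_iff _).mpr hs,
    (QuotientGroup.eq_one_iff _).mpr hr, mul_one]
  rw [← QuotientGroup.mk_inv, ← QuotientGroup.mk_inv, ← QuotientGroup.mk_mul, ← QuotientGroup.mk_mul,
    ← QuotientGroup.mk_mul, QuotientGroup.eq_one_iff]
  exact zpowers_le_of_dvd_card hp hx hC h (comm_mem hp hx hC hn hm)

theorem not_mem_of_not_dvd_card (h : ¬ p ∣ Nat.card S) {y : G} (hy : y ∈ zpowers x) (hyS : y ∈ S) :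
    y = 1 := by
  by_contra h1
  have := orderOf_dvd_natCard (⟨y, hyS⟩ : S)
  rw [orderOf_mk, (orderOf_eq_iff_mem hp hx hC hy).mpr h1] at this
  exact h this

theorem fixedPointFree (h : ¬ p ∣ Nat.card S) :
    MonoidHom.FixedPointFree (MulAut.conjNormal x : MulAut S) := by
  intro s hs
  have hs' : x * (s : G) * x⁻¹ = s := by
    have := congrArg Subtype.val hs
    rwa [MulAut.conjNormal_apply] at this
  exact Subtype.ext (not_mem_of_not_dvd_card hp hx hC h
    (mem_of_comm hp hx hC (mul_inv_eq_iff_eq_mul.mp hs').symm) s.2)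

/-- Every element of a normal `p'`-subgroup is a commutator `g x g⁻¹ x⁻¹` with `g` in the subgroup. -/
theorem exists_eq_comm (h : ¬ p ∣ Nat.card S) {s : G} (hs : s ∈ S) :
    ∃ g ∈ S, g * x * g⁻¹ * x⁻¹ = s := by
  obtain ⟨g, hg⟩ := (fixedPointFree hp hx hC h).commutatorMap_surjective ⟨s, hs⟩
  refine ⟨g, g.2, ?_⟩
  have := congrArg Subtype.val hg
  simp only [MonoidHom.commutatorMap, coe_div, MulAut.conjNormal_apply] at this
  rw [← this, div_eq_mul_inv]; group

theorem le_commutator_of_not_dvd_card (h : ¬ p ∣ Nat.card S) : S ≤ commutator G := by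
  intro s hs
  obtain ⟨g, -, rfl⟩ := exists_eq_comm hp hx hC h hs
  rw [← commutatorElement_def]
  exact commutator_mem_commutator (mem_top g) (mem_top x)

theorem card_mod_eq_one (h : ¬ p ∣ Nat.card S) : Nat.card S % p = 1 := by
  have := Fact.mk hp
  let : MulAction (zpowers x) S :=
    MulAction.compHom S ((MulAut.conjNormal (H := S)).comp (zpowers x).subtype)
  have hP : IsPGroup p (zpowers x) := IsPGroup.of_card (n := 1) (by rw [Nat.card_zpowers, hx, pow_one])
  have hfix : Nat.card (MulAction.fixedPoints (zpowers x) S) = 1 := by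
    rw [Nat.card_eq_one_iff_unique]
    refine ⟨⟨fun a b => Subtype.ext ?_⟩, ⟨⟨1, fun g => map_one (MulAut.conjNormal (g : G))⟩⟩⟩
    rw [fixedPointFree hp hx hC h a.1 (a.2 ⟨x, mem_zpowers x⟩),
      fixedPointFree hp hx hC h b.1 (b.2 ⟨x, mem_zpowers x⟩)]
  have := hP.card_modEq_card_fixedPoints S
  rw [hfix] at this
  rw [this, Nat.one_mod_eq_one.mpr hp.one_lt.ne']

theorem normalizer_inf_eq_bot (h : ¬ p ∣ Nat.card S) :
    normalizer (zpowers x : Set G) ⊓ S = ⊥ := by
  rw [eq_bot_iff]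
  rintro s ⟨hsN, hsS⟩
  have h1 : s * x * s⁻¹ * x⁻¹ ∈ zpowers x :=
    mul_mem ((mem_normalizer_iff.mp hsN x).mp (mem_zpowers x)) (inv_mem (mem_zpowers x))
  have h2 : s * x * s⁻¹ * x⁻¹ ∈ S := by
    have := S.mul_mem hsS ((inferInstance : S.Normal).conj_mem _ (S.inv_mem hsS) x)
    simpa [mul_assoc] using this
  have h3 := not_mem_of_not_dvd_card hp hx hC h h1 h2
  rw [mem_bot]
  exact not_mem_of_not_dvd_card hp hx hC h
    (mem_of_comm hp hx hC (mul_inv_eq_iff_eq_mul.mp (mul_inv_eq_one.mp h3))) hsS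

theorem injective_normalizer_quotient (h : ¬ p ∣ Nat.card S) :
    Function.Injective ((QuotientGroup.mk' S).comp (normalizer (zpowers x : Set G)).subtype) := by
  rw [← MonoidHom.ker_eq_bot_iff, eq_bot_iff]
  intro n hn
  have : (n : G) ∈ normalizer (zpowers x : Set G) ⊓ S :=
    ⟨n.2, (QuotientGroup.eq_one_iff _).mp (MonoidHom.mem_ker.mp hn)⟩
  rw [normalizer_inf_eq_bot hp hx hC h, mem_bot] at this
  exact mem_bot.mpr (Subtype.ext this)

theorem card_dvd_index_normalizer (h : ¬ p ∣ Nat.card S) :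
    Nat.card S ∣ (normalizer (zpowers x : Set G)).index := by
  have h1 : Nat.card (normalizer (zpowers x : Set G)) ∣ S.index :=
    card_dvd_of_injective _ (injective_normalizer_quotient hp hx hC h)
  obtain ⟨k, hk⟩ := h1
  refine ⟨k, ?_⟩
  have h2 := card_mul_index S
  rw [← card_mul_index (normalizer (zpowers x : Set G)), hk] at h2
  exact Nat.eq_of_mul_eq_mul_left Nat.card_pos (h2.symm.trans (by ring))

theorem mem_sup_zpowers_of_comm (h : ¬ p ∣ Nat.card S) {g : G}
    (hg : g * x * g⁻¹ * x⁻¹ ∈ S) : ∃ s ∈ S, s⁻¹ * g ∈ zpowers x := by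
  obtain ⟨s, hs, hsg⟩ := exists_eq_comm hp hx hC h hg
  refine ⟨s, hs, mem_of_comm hp hx hC ?_⟩
  have : s * x * s⁻¹ = g * x * g⁻¹ := mul_right_cancel hsg
  calc s⁻¹ * g * x = s⁻¹ * (g * x * g⁻¹) * g := by group
    _ = x * (s⁻¹ * g) := by rw [← this]; group

end
end Cfsg.Agent.SelfCentPrime
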