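/-
The derived series of a group with a self-centralizing element of prime order `p`.

Main results (namespace `Cfsg.Agent.SelfCentPrime`): `commutator_of_abelian_normalizer`,
`index_commutator_dvd`, `isSimpleGroup_derived_mod_core`, `derived_structure`, `derived_ne_of_exists`.
-/
import Cfsg.Agent.Lib.SelfCentPrime.Basic

set_option autoImplicit false
set_option linter.unusedSectionVars false

namespace Cfsg.Agent.SelfCentPrime

open Subgroup
open scoped commutatorElement

/-- The largest normal `p'`-subgroup has order prime to `p`. -/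
theorem card_pPrimeCore_coprime (p : ℕ) (G : Type*) [Group G] [Finite G] :
    (Nat.card (Cfsg.pPrimeCore p G)).Coprime p := by
  let s : Set (Subgroup G) := {N | N.Normal ∧ (Nat.card N).Coprime p}
  have hne : s.Nonempty := ⟨⊥, inferInstance, by rw [Subgroup.card_bot]; exact Nat.coprime_one_left p⟩
  obtain ⟨W, hW⟩ := (Set.toFinite s).exists_maximal hne
  obtain ⟨⟨hWn, hWc⟩, hmax⟩ := hW
  have : Cfsg.pPrimeCore p G = W := by
    refine le_antisymm (sSup_le fun T hT => ?_) (le_sSup ⟨hWn, hWc⟩)
    obtain ⟨hTn, hTc⟩ := hT
    have : (T ⊔ W).Normal := Subgroup.sup_normal T W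
    have hcop : (Nat.card (T ⊔ W : Subgroup G)).Coprime p := by
      have h1 := W.relIndex_mul_relIndex (⊥ : Subgroup G) (T ⊔ W)
      rw [← card_mul_index (W.subgroupOf (T ⊔ W)), Nat.card_congr (subgroupOfEquivOfLe le_sup_right).toEquiv]
      refine Nat.Coprime.mul_left hWc (Nat.Coprime.coprime_dvd_left ?_ hTc)
      show W.relIndex (T ⊔ W) ∣ _
      rw [relIndex_sup_right]
      exact relIndex_dvd_card W T
    exact le_sup_left.trans (hmax ⟨this, hcop⟩ le_sup_right)
  rw [this]
  exact hWc

theorem pPrimeCore_normal (p : ℕ) (G : Type*) [Group G] : (Cfsg.pPrimeCore p G).Normal :=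
  sSup_normal _ fun _ h => h.1

theorem pPrimeCore_characteristic (p : ℕ) (G : Type*) [Group G] :
    (Cfsg.pPrimeCore p G).Characteristic := by
  rw [characteristic_iff_map_le]
  intro φ
  refine map_le_iff_le_comap.mpr (sSup_le fun N hN => ?_)
  rw [← map_le_iff_le_comap]
  exact le_sSup ⟨hN.1.map _ φ.surjective,
    by rw [Nat.card_congr (N.equivMapOfInjective _ φ.injective).toEquiv.symm]; exact hN.2⟩

variable {G : Type*} [Group G] [Finite G] {p : ℕ} {x : G}
variable (hp : p.Prime) (hx : orderOf x = p)
  (hC : Subgroup.centralizer ({x} : Set G) = Subgroup.zpowers x)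
include hp hx hC

theorem pPrimeCore_le_commutator : Cfsg.pPrimeCore p G ≤ commutator G := by
  refine sSup_le fun N hN => ?_
  have := hN.1
  exact le_commutator_of_not_dvd_card hp hx hC fun h => (hp.coprime_iff_not_dvd.mp hN.2.symm) h

theorem not_dvd_card_pPrimeCore : ¬ p ∣ Nat.card (Cfsg.pPrimeCore p G) :=
  hp.coprime_iff_not_dvd.mp (card_pPrimeCore_coprime p G).symm

theorem le_pPrimeCore {S : Subgroup G} [S.Normal] (h : ¬ p ∣ Nat.card S) :
    S ≤ Cfsg.pPrimeCore p G :=
  le_sSup ⟨inferInstance, (hp.coprime_iff_not_dvd.mpr h).symm⟩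

/-- If the normalizer of `⟨x⟩` is `⟨x⟩`, the derived subgroup is the normal `p`-complement. -/
theorem commutator_of_abelian_normalizer
    (he : (zpowers x).relIndex (normalizer (zpowers x : Set G)) = 1) :
    (commutator G).index = p ∧ ¬ p ∣ Nat.card (commutator G) := by
  have := Fact.mk hp
  obtain ⟨S, hS⟩ := exists_sylow hp hx hC
  have hle : normalizer ((S : Subgroup G) : Set G) ≤ centralizer ((S : Subgroup G) : Set G) := by
    rw [hS]
    refine (relIndex_eq_one.mp he).trans (zpowers_le.mpr (mem_centralizer_iff.mpr fun y hy => ?_))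
    obtain ⟨i, hi⟩ := mem_zpowers_iff.mp hy
    rw [← hi]; exact ((Commute.refl x).zpow_left i).eq
  have hcomp := MonoidHom.ker_transferSylow_isComplement' S hle
  have hnd := MonoidHom.not_dvd_card_ker_transferSylow S hle
  have hidx : (MonoidHom.transferSylow S hle).ker.index = p := by
    rw [hcomp.symm.index_eq_card, hS, Nat.card_zpowers, hx]
  have heq : commutator G = (MonoidHom.transferSylow S hle).ker := by
    refine le_antisymm ?_ (le_commutator_of_not_dvd_card hp hx hC hnd)
    rw [← Subgroup.Normal.quotient_commutative_iff_commutator_le]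
    have : IsCyclic (G ⧸ (MonoidHom.transferSylow S hle).ker) :=
      isCyclic_of_prime_card (p := p) hidx
    exact IsCyclic.isMulCommutative
  rw [heq]
  exact ⟨hidx, hnd⟩

/-- If the normalizer of `⟨x⟩` is larger, `x` lies in the derived subgroup. -/
theorem dvd_card_commutator
    (he : (zpowers x).relIndex (normalizer (zpowers x : Set G)) ≠ 1) :
    p ∣ Nat.card (commutator G) := by
  obtain ⟨n, hn, hnx⟩ := SetLike.not_le_iff_exists.mp fun h => he (relIndex_eq_one.mpr h)
  have h1 : n * x * n⁻¹ * x⁻¹ ∈ zpowers x :=
    mul_mem ((mem_normalizer_iff.mp hn x).mp (mem_zpowers x)) (inv_mem (mem_zpowers x))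
  have h2 : n * x * n⁻¹ * x⁻¹ ∈ commutator G := commutator_mem_commutator (mem_top n) (mem_top x)
  have h3 : n * x * n⁻¹ * x⁻¹ ≠ 1 := fun h =>
    hnx (mem_of_comm hp hx hC (mul_inv_eq_iff_eq_mul.mp (mul_inv_eq_one.mp h)))
  have := orderOf_dvd_natCard (⟨_, h2⟩ : commutator G)
  rwa [orderOf_mk, (orderOf_eq_iff_mem hp hx hC h1).mpr h3] at this

theorem index_commutator_dvd
    (he : (zpowers x).relIndex (normalizer (zpowers x : Set G)) ≠ 1) :
    (commutator G).index ∣ (zpowers x).relIndex (normalizer (zpowers x : Set G)) := by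
  have hd := dvd_card_commutator hp hx hC he
  have h := relIndex_sup_right (H := normalizer (zpowers x : Set G)) (K := commutator G)
  rw [normalizer_sup_eq_top hp hx hC hd, relIndex_top_right] at h
  rw [h]
  exact relIndex_dvd_of_le_left _ (zpowers_le_of_dvd_card hp hx hC hd)

/-- The derived subgroup modulo the `p'`-core is simple. -/
theorem isSimpleGroup_derived_mod_core
    (he : (zpowers x).relIndex (normalizer (zpowers x : Set G)) ≠ 1)
    [((Cfsg.pPrimeCore p G).subgroupOf (commutator G)).Normal] :
    IsSimpleGroup (↥(commutator G) ⧸ (Cfsg.pPrimeCore p G).subgroupOf (commutator G)) := by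
  have := Fact.mk hp
  have hd := dvd_card_commutator hp hx hC he
  have hPL := zpowers_le_of_dvd_card hp hx hC hd
  set O := (Cfsg.pPrimeCore p G).subgroupOf (commutator G) with hO
  have hOcard : ¬ p ∣ Nat.card O := fun h => not_dvd_card_pPrimeCore hp hx hC
    (h.trans ((Nat.card_congr (subgroupOfEquivOfLe (pPrimeCore_le_commutator hp hx hC)).toEquiv).dvd))
  have key : ∀ M : Subgroup (commutator G), M.Normal → O ≤ M → M = O ∨ M = ⊤ := by
    intro M hM hOM
    by_cases hpM : p ∣ Nat.card M
    · right
      -- `M` contains every element of order `p`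
      have hall : ∀ g : commutator G, orderOf g = p → g ∈ M := by
        intro g hg
        obtain ⟨m, hm⟩ := exists_prime_orderOf_dvd_card' (G := M) p hpM
        rw [← orderOf_coe] at hm
        have hQ : ∀ a : commutator G, orderOf a = p →
            ∃ Q : Sylow p (commutator G), (Q : Subgroup (commutator G)) = zpowers a := by
          intro a ha
          obtain ⟨Q, hQ⟩ := (IsPGroup.of_card (n := 1) (by rw [Nat.card_zpowers, ha, pow_one]) :
            IsPGroup p (zpowers a)).exists_le_sylow
          refine ⟨Q, (eq_of_le_of_card_ge hQ ?_).symm⟩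
          obtain ⟨R, hR⟩ := (Q.2.map (commutator G).subtype).exists_le_sylow
          calc Nat.card (Q : Subgroup (commutator G))
              = Nat.card ((Q : Subgroup (commutator G)).map (commutator G).subtype) :=
                Nat.card_congr (equivMapOfInjective _ _ (commutator G).subtype_injective).toEquiv
            _ ≤ Nat.card (R : Subgroup G) := Nat.le_of_dvd Nat.card_pos (card_dvd_of_le hR)
            _ = _ := by rw [card_sylow hp hx hC, Nat.card_zpowers, ha]
        obtain ⟨Q, hQm⟩ := hQ _ hm
        obtain ⟨R, hRg⟩ := hQ _ hg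
        obtain ⟨c, hc⟩ := MulAction.exists_smul_eq (commutator G) Q R
        have : g ∈ ((c • Q : Sylow p (commutator G)) : Subgroup (commutator G)) := by
          rw [hc, hRg]; exact mem_zpowers g
        have hle : ((c • Q : Sylow p (commutator G)) : Subgroup (commutator G)) ≤ M := by
          rintro z ⟨w, hw, rfl⟩
          exact hM.conj_mem w ((hQm.le.trans (zpowers_le.mpr m.2)) hw) c
        exact hle this
      let W := Subgroup.normalClosure {g : G | orderOf g = p}
      have hW : W.Normal := normalClosure_normal
      have hxW : p ∣ Nat.card W := by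
          have := orderOf_dvd_natCard (⟨x, subset_normalClosure hx⟩ : W)
          rwa [orderOf_mk, hx] at this
      have hLW := commutator_le_of_dvd_card hp hx hC hxW
      have hWL : W ≤ M.map (commutator G).subtype := by
        refine (closure_le _).mpr fun g hg' => ?_
        obtain ⟨a, ha, hga⟩ := Group.mem_conjugatesOfSet_iff.mp hg'
        have hg : orderOf g = p := by
          obtain ⟨c, rfl⟩ := isConj_iff.mp hga
          exact ((MulAut.conj c).orderOf_eq a).trans ha
        have hgL : g ∈ commutator G := by
          obtain ⟨c, hc⟩ := zpowers_eq_of_card hp hx hC (H := zpowers g) (by rw [Nat.card_zpowers]; exact hg)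
          obtain ⟨y, hy, hyg⟩ := mem_map.mp (hc ▸ mem_zpowers g)
          exact hyg ▸ (inferInstance : (commutator G).Normal).conj_mem y (hPL hy) c
        exact ⟨⟨g, hgL⟩, hall _ (by rw [orderOf_mk]; exact hg), rfl⟩
      rw [eq_top_iff]
      intro g _
      obtain ⟨m, hm, hmg⟩ := (hLW.trans hWL) g.2
      exact Subtype.ext hmg ▸ hm
    · left
      refine le_antisymm ?_ hOM
      have hMle : M ≤ Cfsg.pPrimeCore p (commutator G) :=
        le_sSup ⟨hM, (hp.coprime_iff_not_dvd.mpr hpM).symm⟩
      have := pPrimeCore_characteristic p (commutator G)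
      have hn : ((Cfsg.pPrimeCore p (commutator G)).map (commutator G).subtype).Normal :=
        inferInstance
      have hc : ¬ p ∣ Nat.card ((Cfsg.pPrimeCore p (commutator G)).map (commutator G).subtype) := by
        rw [← Nat.card_congr (equivMapOfInjective _ _ (commutator G).subtype_injective).toEquiv]
        exact hp.coprime_iff_not_dvd.mp (card_pPrimeCore_coprime p (commutator G)).symm
      exact fun g hg => le_pPrimeCore hp hx hC hc (mem_map_of_mem _ (hMle hg))
  have hne : Nontrivial (↥(commutator G) ⧸ O) := by
    rw [← Finite.one_lt_card_iff_nontrivial]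
    by_contra h
    have h1 : O.index = 1 := le_antisymm (not_lt.mp h) (Nat.one_le_iff_ne_zero.mpr index_ne_zero_of_finite)
    rw [index_eq_one] at h1
    rw [h1, card_top] at hOcard
    exact hOcard hd
  refine { eq_bot_or_eq_top_of_normal := fun M hM => ?_ }
  rcases key (M.comap (QuotientGroup.mk' O)) (hM.comap _)
    (fun o ho => by rw [mem_comap, QuotientGroup.mk'_apply, (QuotientGroup.eq_one_iff o).mpr ho]; exact one_mem _)
    with h | h
  · left
    apply comap_injective (QuotientGroup.mk'_surjective O)
    rw [h, MonoidHom.comap_bot, QuotientGroup.ker_mk']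
  · right
    apply comap_injective (QuotientGroup.mk'_surjective O)
    rw [h, comap_top]

/-- If `G'' ≠ G'` and `N(⟨x⟩) ≠ ⟨x⟩`, then `G''` is a complement of `N(⟨x⟩)`. -/
theorem derived_structure
    (he : (zpowers x).relIndex (normalizer (zpowers x : Set G)) ≠ 1)
    (hne : derivedSeries G 2 ≠ derivedSeries G 1) :
    Nat.card (derivedSeries G 2) = (normalizer (zpowers x : Set G)).index ∧
      Nat.card (commutator G) = p * (normalizer (zpowers x : Set G)).index := by
  have hd := dvd_card_commutator hp hx hC he
  have hO := not_dvd_card_pPrimeCore hp hx hC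
  have h2le : derivedSeries G 2 ≤ commutator G := derivedSeries_one G ▸ derivedSeries_antitone G (by norm_num)
  have h2n : (derivedSeries G 2).Normal := derivedSeries_normal G 2
  have h2p : ¬ p ∣ Nat.card (derivedSeries G 2) := fun h =>
    hne (by rw [derivedSeries_one]; exact le_antisymm h2le (commutator_le_of_dvd_card hp hx hC h))
  have h2O : derivedSeries G 2 ≤ Cfsg.pPrimeCore p G := le_pPrimeCore hp hx hC h2p
  have hn := pPrimeCore_normal p G
  have hOL := pPrimeCore_le_commutator hp hx hC
  set O := Cfsg.pPrimeCore p G with hOdef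
  have hOLn : (O.subgroupOf (commutator G)).Normal := inferInstance
  have hs := isSimpleGroup_derived_mod_core hp hx hC he
  have hcm : IsMulCommutative (↥(commutator G) ⧸ O.subgroupOf (commutator G)) := by
    rw [Subgroup.Normal.quotient_commutative_iff_commutator_le]
    intro g hg
    rw [mem_subgroupOf]
    apply h2O
    rw [derivedSeries_succ, derivedSeries_one, ← map_subtype_commutator]
    exact mem_map_of_mem _ hg
  let : CommGroup (↥(commutator G) ⧸ O.subgroupOf (commutator G)) :=
    { (inferInstance : Group (↥(commutator G) ⧸ O.subgroupOf (commutator G))) with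
      mul_comm := fun a b => mul_comm' a b }
  have hpr : (O.relIndex (commutator G)).Prime := IsSimpleGroup.prime_card
  have hmul : Nat.card O * O.relIndex (commutator G) = Nat.card (commutator G) := by
    rw [← Nat.card_congr (subgroupOfEquivOfLe hOL).toEquiv]
    exact card_mul_index _
  have hq : O.relIndex (commutator G) = p := by
    have : p ∣ O.relIndex (commutator G) := (hp.dvd_mul.mp (hmul ▸ hd)).resolve_left hO
    exact ((Nat.prime_dvd_prime_iff_eq hp hpr).mp this).symm
  -- the normalizer covers `G / O`
  have hcover : ∀ g : G, ∃ n ∈ normalizer (zpowers x : Set G), ∃ o ∈ O, n * o = g := by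
    have hsub : commutator G ≤ zpowers x ⊔ O := by
      have h1 : zpowers x ⊔ O ≤ commutator G :=
        sup_le (zpowers_le_of_dvd_card hp hx hC hd) hOL
      refine (eq_of_le_of_card_ge h1 ?_).ge
      have hmono : Nat.card O * p ∣ Nat.card (zpowers x ⊔ O : Subgroup G) := by
        refine Nat.Coprime.mul_dvd_of_dvd_of_dvd (hp.coprime_iff_not_dvd.mpr hO).symm
          (card_dvd_of_le le_sup_right) ?_
        have := card_dvd_of_le (le_sup_left : zpowers x ≤ zpowers x ⊔ O)
        rwa [Nat.card_zpowers, hx] at this
      rw [← hmul, hq]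
      exact Nat.le_of_dvd Nat.card_pos hmono
    intro g
    have htop : normalizer (zpowers x : Set G) ⊔ O = ⊤ := by
      rw [eq_top_iff, ← normalizer_sup_eq_top hp hx hC hd]
      refine sup_le le_sup_left (hsub.trans (sup_le ?_ le_sup_right))
      exact le_normalizer.trans le_sup_left
    exact mem_sup_of_normal_right.mp (htop ▸ mem_top g)
  have hidx : O.index = Nat.card (normalizer (zpowers x : Set G)) := by
    refine (Nat.card_congr (Equiv.ofBijective _ ⟨injective_normalizer_quotient hp hx hC hO, ?_⟩)).symm
    intro q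
    induction q using QuotientGroup.induction_on with | H g => ?_
    obtain ⟨n, hnn, o, ho, rfl⟩ := hcover g
    exact ⟨⟨n, hnn⟩, by simp [(QuotientGroup.eq_one_iff o).mpr ho]⟩
  have hcardO : Nat.card O = (normalizer (zpowers x : Set G)).index := by
    have h := card_mul_index O
    rw [hidx, ← card_mul_index (normalizer (zpowers x : Set G)), mul_comm] at h
    exact Nat.eq_of_mul_eq_mul_left Nat.card_pos h
  have hO2 : derivedSeries G 2 = O := by
    refine le_antisymm h2O fun o ho => ?_
    obtain ⟨g, hg, rfl⟩ := exists_eq_comm hp hx hC hO ho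
    rw [derivedSeries_succ, derivedSeries_one]
    exact commutator_mem_commutator (hOL hg) (zpowers_le_of_dvd_card hp hx hC hd (mem_zpowers x))
  exact ⟨by rw [hO2, hcardO], by rw [← hmul, hq, hcardO, mul_comm]⟩

theorem derived_ne_of_exists
    (he : (zpowers x).relIndex (normalizer (zpowers x : Set G)) ≠ 1) {S : Subgroup G} [S.Normal]
    (hS : ¬ p ∣ Nat.card S) (hcard : Nat.card S = (normalizer (zpowers x : Set G)).index) :
    derivedSeries G 2 ≠ derivedSeries G 1 := by
  intro heq
  have hd := dvd_card_commutator hp hx hC he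
  have hbij : Function.Bijective ((QuotientGroup.mk' S).comp (normalizer (zpowers x : Set G)).subtype) := by
    refine (Nat.bijective_iff_injective_and_card _).mpr ⟨injective_normalizer_quotient hp hx hC hS, ?_⟩
    have h := card_mul_index S
    rw [hcard, ← card_mul_index (normalizer (zpowers x : Set G)), mul_comm] at h
    exact (Nat.eq_of_mul_eq_mul_right (Nat.pos_of_ne_zero index_ne_zero_of_finite) h).symm
  have hle : commutator G ≤ ((zpowers x).map (QuotientGroup.mk' S)).comap (QuotientGroup.mk' S) := by
    rw [commutator_def, Subgroup.commutator_le]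
    intro a _ b _
    obtain ⟨n, hn⟩ := hbij.2 (QuotientGroup.mk' S a)
    obtain ⟨m, hm⟩ := hbij.2 (QuotientGroup.mk' S b)
    rw [mem_comap, map_commutatorElement, ← hn, ← hm]
    exact ⟨_, comm_mem hp hx hC n.2 m.2, by simp [commutatorElement_def]⟩
  have hcm : ∀ a ∈ commutator G, ∀ b ∈ commutator G, ⁅a, b⁆ ∈ S := by
    intro a ha b hb
    obtain ⟨u, hu, hua⟩ := mem_map.mp (mem_comap.mp (hle ha))
    obtain ⟨v, hv, hvb⟩ := mem_map.mp (mem_comap.mp (hle hb))
    obtain ⟨i, rfl⟩ := mem_zpowers_iff.mp hu
    obtain ⟨j, rfl⟩ := mem_zpowers_iff.mp hv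
    rw [← QuotientGroup.eq_one_iff]
    show QuotientGroup.mk' S ⁅a, b⁆ = 1
    rw [map_commutatorElement, ← hua, ← hvb, ← map_commutatorElement,
      commutatorElement_eq_one_iff_mul_comm.mpr (((Commute.refl x).zpow_zpow i j).eq), map_one]
  have : derivedSeries G 2 ≤ S := by
    rw [derivedSeries_succ, derivedSeries_one, Subgroup.commutator_le]
    exact hcm
  rw [heq, derivedSeries_one] at this
  exact hS (hd.trans (card_dvd_of_le this))

end Cfsg.Agent.SelfCentPrime
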