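/-
Characters when `C(x) = ⟨x⟩` for `x` of prime order `p` (namespace `Cfsg.Agent.SelfCentPrime`).

Main results: `sum_singular`, `exists_regular_integer` (`n = p · [χ₀, ψ]` with `p δ - n` the sum over
`⟨x⟩ \ {1}` divided by `e`, and `m n ≡ χ(1) ψ(1)` mod `p`), `exists_normalizer_generator`.
-/
import Cfsg.Agent.Lib.SelfCentPrime.Basic
import Cfsg.Agent.Lib.BlockDefect.RegInner
import Cfsg.Agent.Lib.Char.PRegular

set_option autoImplicit false
set_option linter.unusedSectionVars false
set_option linter.style.haveILetI false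

open scoped ComplexConjugate

namespace Cfsg.Agent.SelfCentPrime

open Cfsg

variable {G : Type*} [Group G] [Fintype G] {p : ℕ} {x : G}

section
variable (hp : p.Prime) (hx : orderOf x = p)
  (hC : Subgroup.centralizer ({x} : Set G) = Subgroup.zpowers x)
include hp hx hC

/-- A sum over the `p`-singular elements is a multiple of the sum over `⟨x⟩ \ {1}`. -/
theorem sum_singular [DecidableEq G] [Fintype (Subgroup.zpowers x)] {f : G → ℂ}
    (hf : IsClassFunction G f) :
    ∑ g ∈ Finset.univ.filter (fun g : G => p ∣ orderOf g), f g =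
      ((Subgroup.normalizer (Subgroup.zpowers x : Set G)).index : ℂ) *
        ∑ u ∈ Finset.univ.filter (fun u : Subgroup.zpowers x => u ≠ 1), f (u : G) := by
  classical
  set N := Subgroup.normalizer ((Subgroup.zpowers x) : Set G) with hN
  let D : Finset (G × (Subgroup.zpowers x)) := Finset.univ.filter fun gu => gu.2 ≠ 1
  have h1 : ∑ gu ∈ D, f (gu.1 * (gu.2 : G) * gu.1⁻¹) =
      (Nat.card G : ℂ) * ∑ u ∈ Finset.univ.filter (fun u : (Subgroup.zpowers x) => u ≠ 1), f (u : G) := by
    rw [show D = (Finset.univ : Finset G) ×ˢ Finset.univ.filter (fun u : (Subgroup.zpowers x) => u ≠ 1) by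
      ext gu; simp [D], Finset.sum_product]
    simp only [hf _ _, Finset.sum_const, Finset.card_univ, nsmul_eq_mul, Nat.card_eq_fintype_card]
  have hmaps : ∀ gu ∈ D, gu.1 * (gu.2 : G) * gu.1⁻¹ ∈ Finset.univ.filter (fun g : G => p ∣ orderOf g) := by
    intro gu hgu
    refine Finset.mem_filter.mpr ⟨Finset.mem_univ _, ?_⟩
    have := (orderOf_eq_iff_mem hp hx hC gu.2.2).mpr
      (fun h => (Finset.mem_filter.mp hgu).2 (Subtype.ext h))
    rw [show gu.1 * (gu.2 : G) * gu.1⁻¹ = MulAut.conj gu.1 (gu.2 : G) from rfl,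
      MulEquiv.orderOf_eq, this]
  have h2 : ∀ y ∈ Finset.univ.filter (fun g : G => p ∣ orderOf g),
      ∑ gu ∈ D.filter (fun gu => gu.1 * (gu.2 : G) * gu.1⁻¹ = y), f (gu.1 * (gu.2 : G) * gu.1⁻¹) =
        (Nat.card N : ℂ) * f y := by
    intro y hy
    rw [Finset.sum_congr rfl (g := fun _ => f y) (fun gu hgu => by rw [(Finset.mem_filter.mp hgu).2]),
      Finset.sum_const, nsmul_eq_mul]
    congr 1
    norm_cast
    -- `y` is conjugate into `(Subgroup.zpowers x)`
    obtain ⟨g₀, hg₀⟩ : ∃ g₀ : G, g₀⁻¹ * y * g₀ ∈ (Subgroup.zpowers x) := by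
      have hop : orderOf (y ^ (orderOf y / p)) = p :=
        orderOf_pow_orderOf_div (orderOf_pos y).ne' (Finset.mem_filter.mp hy).2
      obtain ⟨g, hg⟩ := zpowers_eq_of_card hp hx hC
        (H := Subgroup.zpowers (y ^ (orderOf y / p))) (by rw [Nat.card_zpowers, hop])
      have hmem : y ^ (orderOf y / p) ∈ (Subgroup.zpowers x).map (MulAut.conj g).toMonoidHom := by
        rw [hg]; exact Subgroup.mem_zpowers _
      obtain ⟨u, hu, hgu⟩ := hmem
      change g * u * g⁻¹ = _ at hgu
      refine ⟨g, mem_of_comm hp hx hC ?_⟩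
      have hu1 : u ≠ 1 := fun h => hp.ne_one (by rw [← hop, ← hgu, h, mul_one, mul_inv_cancel, orderOf_one])
      have hc : Commute (g⁻¹ * y * g) u := by
        have e : u = g⁻¹ * y ^ (orderOf y / p) * g := by rw [← hgu]; group
        rw [e, Commute, SemiconjBy]
        calc g⁻¹ * y * g * (g⁻¹ * y ^ (orderOf y / p) * g)
            = g⁻¹ * (y * y ^ (orderOf y / p)) * g := by group
          _ = g⁻¹ * (y ^ (orderOf y / p) * y) * g := by rw [(Commute.self_pow y _).eq]
          _ = _ := by group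
      obtain ⟨i, hi⟩ := Subgroup.mem_zpowers_iff.mp (exists_pow_eq_of_ne_one hp hx hC hu hu1)
      rw [← hi]
      exact (hc.zpow_right i).eq
    set u₀ : (Subgroup.zpowers x) := ⟨_, hg₀⟩ with hu₀
    have hu₀1 : (u₀ : G) ≠ 1 := fun h => by
      have e : y = 1 :=
        calc y = g₀ * (g₀⁻¹ * y * g₀) * g₀⁻¹ := by group
          _ = 1 := by rw [show g₀⁻¹ * y * g₀ = 1 from h]; group
      have := (Finset.mem_filter.mp hy).2
      rw [e, orderOf_one, Nat.dvd_one] at this
      exact hp.ne_one this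
    rw [Nat.card_eq_fintype_card, ← Fintype.card_coe]
    refine Fintype.card_congr
      { toFun := fun gu => ⟨gu.1.1⁻¹ * g₀, ?_⟩
        invFun := fun n => ⟨(g₀ * (n : G)⁻¹, ⟨(n : G) * u₀ * (n : G)⁻¹,
          (Subgroup.mem_normalizer_iff.mp n.2 _).mp u₀.2⟩), ?_⟩
        left_inv := fun gu => ?_
        right_inv := fun n => ?_ }
    · obtain ⟨hD, he⟩ := Finset.mem_filter.mp gu.2
      refine (conj_mem_iff hp hx hC u₀.2 hu₀1).mp ?_
      rw [show gu.1.1⁻¹ * g₀ * (u₀ : G) * (gu.1.1⁻¹ * g₀)⁻¹ =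
          gu.1.1⁻¹ * (gu.1.1 * (gu.1.2 : G) * gu.1.1⁻¹) * gu.1.1 by rw [he, hu₀]; group]
      have : gu.1.1⁻¹ * (gu.1.1 * (gu.1.2 : G) * gu.1.1⁻¹) * gu.1.1 = (gu.1.2 : G) := by group
      rw [this]; exact gu.1.2.2
    · refine Finset.mem_filter.mpr ⟨Finset.mem_filter.mpr ⟨Finset.mem_univ _, fun h => hu₀1 ?_⟩, ?_⟩
      · have h' : (n : G) * (u₀ : G) * (n : G)⁻¹ = 1 := congrArg Subtype.val h
        calc (u₀ : G) = (n : G)⁻¹ * ((n : G) * u₀ * (n : G)⁻¹) * n := by group
          _ = 1 := by rw [h']; group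
      · show g₀ * (n : G)⁻¹ * ((n : G) * u₀ * (n : G)⁻¹) * (g₀ * (n : G)⁻¹)⁻¹ = y
        rw [hu₀]; group
    · apply Subtype.ext
      refine Prod.ext (by simp) (Subtype.ext ?_)
      show gu.1.1⁻¹ * g₀ * (u₀ : G) * (gu.1.1⁻¹ * g₀)⁻¹ = (gu.1.2 : G)
      calc gu.1.1⁻¹ * g₀ * (u₀ : G) * (gu.1.1⁻¹ * g₀)⁻¹ = gu.1.1⁻¹ * y * gu.1.1 := by rw [hu₀]; group
        _ = gu.1.1⁻¹ * (gu.1.1 * (gu.1.2 : G) * gu.1.1⁻¹) * gu.1.1 := by rw [(Finset.mem_filter.mp gu.2).2]
        _ = _ := by group
    · apply Subtype.ext; simp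
  rw [← Finset.sum_fiberwise_of_maps_to hmaps, Finset.sum_congr rfl h2, ← Finset.mul_sum,
    ← N.card_mul_index, Nat.cast_mul] at h1
  exact mul_left_cancel₀ (Nat.cast_ne_zero.mpr (Nat.card_pos (α := N)).ne') (by rw [h1]; ring)

theorem card_normalizer_eq :
    Nat.card (Subgroup.normalizer (Subgroup.zpowers x : Set G)) =
      p * (Subgroup.zpowers x).relIndex (Subgroup.normalizer (Subgroup.zpowers x : Set G)) := by
  have h := Subgroup.card_mul_index ((Subgroup.zpowers x).subgroupOf (Subgroup.normalizer (Subgroup.zpowers x : Set G)))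
  rw [Nat.card_congr (Subgroup.subgroupOfEquivOfLe Subgroup.le_normalizer).toEquiv, Nat.card_zpowers, hx] at h
  exact h.symm

/-- `n = p [χ₀, ψ]` as an integer. -/
theorem exists_regular_integer [DecidableEq G] [Fintype (Subgroup.zpowers x)] {M : Ideal AlgInt}
    (hM : IsPModular p M) (χ ψ : IrrCharacter G) (hχ : ¬ p ∣ charDegree (χ : G → ℂ))
    (hψ : ¬ p ∣ charDegree (ψ : G → ℂ)) {m : ℕ} (hm : Nat.card G = p * m) :
    ∃ n : ℤ, (n : ℂ) = p * BlockDefect.regInner p (χ : G → ℂ) (ψ : G → ℂ) ∧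
      ((p : ℤ) ∣ (m : ℤ) * n - (charDegree (χ : G → ℂ) : ℤ) * charDegree (ψ : G → ℂ)) ∧
      ∑ u ∈ Finset.univ.filter (fun u : Subgroup.zpowers x => u ≠ 1),
          (χ : G → ℂ) (u : G) * conj ((ψ : G → ℂ) (u : G)) =
        ((Subgroup.zpowers x).relIndex (Subgroup.normalizer (Subgroup.zpowers x : Set G)) : ℂ) *
          ((p : ℂ) * (if χ = ψ then 1 else 0) - n) := by
  classical
  have := Fact.mk hp
  have := Fintype.ofFinite (ConjClasses G)
  have hm' : ¬ p ∣ m := fun hd => not_sq_dvd hp hx hC (by rw [hm, pow_two]; exact mul_dvd_mul_left p hd)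
  have hfac : (Nat.card G).factorization p = 1 := by
    rw [hm, Nat.factorization_mul hp.ne_zero (show m ≠ 0 by rintro rfl; exact hm' (dvd_zero p)), Finsupp.add_apply,
      Nat.factorization_eq_zero_of_not_dvd hm', hp.factorization, Finsupp.single_eq_same]
  obtain ⟨n, hn⟩ := Char.IsGeneralizedCharacter.classInner_int
    (Char.isGeneralizedCharacter_regularPart hp χ.2 (Blocks.charDegree_cast χ).symm)
    (Char.isGeneralizedCharacter_of_isCharacter (Char.IsIrrCharacter.isCharacter ψ.2))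
  rw [hfac, Nat.factorization_eq_zero_of_not_dvd hχ, Nat.sub_zero, pow_one] at hn
  have hG0 : (Nat.card G : ℂ) ≠ 0 := Nat.cast_ne_zero.mpr Nat.card_pos.ne'
  have hn' : (n : ℂ) = p * BlockDefect.regInner p (χ : G → ℂ) (ψ : G → ℂ) := by
    rw [← hn, BlockDefect.regInner_comm]
    unfold classInner BlockDefect.regInner
    rw [mul_left_comm]
    congr 1
    rw [Finset.mul_sum]
    refine Finset.sum_congr rfl fun y _ => ?_
    simp only [BlockDefect.regFun]
    split_ifs
    · ring
    · rw [Char.IsCharacter.apply_inv (Char.IsIrrCharacter.isCharacter ψ.2)]; ring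
  refine ⟨n, hn', ?_, ?_⟩
  · -- congruence
    set z := BlockDefect.regFun p (χ : G → ℂ) with hz
    have hω : MemLocalIdeal M (Blocks.omega (ψ : G → ℂ) z - (χ : G → ℂ) 1) := by
      rw [Blocks.omega_eq_sum_classes (BlockDefect.isClassFunction_regFun (Blocks.irr_class χ)),
        ← Finset.add_sum_erase _ _ (Finset.mem_univ (ConjClasses.mk (1 : G)))]
      have hout : (ConjClasses.mk (1 : G)).out = (1 : G) :=
        isConj_one_left.mp (ConjClasses.mk_eq_mk_iff_isConj.mp (Quotient.out_eq (ConjClasses.mk (1 : G))))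
      have e1 : z (ConjClasses.mk (1 : G)).out * centralChar (ψ : G → ℂ) (ConjClasses.mk (1 : G)).out =
          (χ : G → ℂ) 1 := by
        rw [hout]
        have : (Subgroup.centralizer ({1} : Set G)).index = 1 :=
          Subgroup.index_eq_one.mpr (eq_top_iff.mpr fun g _ => Subgroup.mem_centralizer_singleton_iff.mpr (by simp))
        simp [hz, BlockDefect.regFun, centralChar, this, hp.ne_one, Blocks.irr_one_ne_zero ψ]
      rw [e1, add_sub_cancel_left]
      refine Blocks.memI_sum hM _ fun q hq => ?_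
      by_cases hreg : p ∣ orderOf q.out
      · simp only [hz, BlockDefect.regFun, if_pos hreg, zero_mul]; exact Blocks.memI_zero hM
      refine Blocks.memI_mul_left hM (BlockDefect.memR_regFun hM χ _) ?_
      have hq1 : q.out ≠ 1 := fun h => Finset.ne_of_mem_erase hq (by rw [← h]; exact (Quotient.out_eq q).symm)
      have hcop : ¬ p ∣ Nat.card (Subgroup.centralizer ({q.out} : Set G)) := by
        intro hd
        obtain ⟨u, hu⟩ := exists_prime_orderOf_dvd_card' p hd
        rw [← Subgroup.orderOf_coe] at hu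
        obtain ⟨g, hg⟩ := zpowers_eq_of_card hp hx hC (H := Subgroup.zpowers (u : G))
          (by rw [Nat.card_zpowers, hu])
        have hmem : g * x * g⁻¹ ∈ Subgroup.zpowers (u : G) := by
          rw [← hg]; exact ⟨x, Subgroup.mem_zpowers x, rfl⟩
        obtain ⟨i, hi⟩ := Subgroup.mem_zpowers_iff.mp hmem
        have hc : Commute q.out (g * x * g⁻¹) := by
          rw [← hi]
          exact (show Commute q.out (u : G) from (Subgroup.mem_centralizer_singleton_iff.mp u.2).symm).zpow_right i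
        have hmx : g⁻¹ * q.out * g ∈ Subgroup.zpowers x := mem_of_comm hp hx hC (by
          calc g⁻¹ * q.out * g * x = g⁻¹ * (q.out * (g * x * g⁻¹)) * g := by group
            _ = g⁻¹ * ((g * x * g⁻¹) * q.out) * g := by rw [hc.eq]
            _ = _ := by group)
        have hne : g⁻¹ * q.out * g ≠ 1 := fun h => hq1 (by
          calc q.out = g * (g⁻¹ * q.out * g) * g⁻¹ := by group
            _ = 1 := by rw [h]; group)
        apply hreg
        have h3 := (orderOf_eq_iff_mem hp hx hC hmx).mpr hne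
        rw [show g⁻¹ * q.out * g = MulAut.conj g⁻¹ q.out by simp, MulEquiv.orderOf_eq] at h3
        rw [h3]
      have hpi : p ∣ (Subgroup.centralizer ({q.out} : Set G)).index := by
        have h := (Subgroup.centralizer ({q.out} : Set G)).card_mul_index
        rw [hm] at h
        exact ((hp.coprime_iff_not_dvd.mpr hcop).dvd_of_dvd_mul_left ⟨m, h⟩)
      obtain ⟨r, hr⟩ := hpi
      rw [centralChar, hr, Nat.cast_mul, mul_assoc, mul_div_assoc]
      refine Blocks.memI_mul_right hM (Blocks.memI_p hM) ?_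
      rw [← Blocks.charDegree_cast, div_eq_mul_inv]
      exact Blocks.memR_mul hM (Blocks.memR_mul hM (Blocks.memR_natCast hM r)
        (Blocks.memR_of_isIntegral hM (Blocks.isIntegral_irr ψ _))) (Blocks.memR_natCast_inv hM hψ)
    have key : MemLocalIdeal M ((((m : ℤ) * n - (charDegree (χ : G → ℂ) : ℤ) * charDegree (ψ : G → ℂ) : ℤ)) : ℂ) := by
      push_cast
      rw [hn', BlockDefect.regInner_eq_omega, hm, Blocks.charDegree_cast, Blocks.charDegree_cast]
      have hp0 : (p : ℂ) ≠ 0 := Nat.cast_ne_zero.mpr hp.ne_zero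
      have hm0 : (m : ℂ) ≠ 0 := Nat.cast_ne_zero.mpr fun h0 => hm' (h0 ▸ dvd_zero p)
      push_cast
      rw [show (m : ℂ) * ((p : ℂ) * ((ψ : G → ℂ) 1 / ((p : ℂ) * (m : ℂ)) * Blocks.omega (ψ : G → ℂ) z)) -
        (χ : G → ℂ) 1 * (ψ : G → ℂ) 1 = (ψ : G → ℂ) 1 * (Blocks.omega (ψ : G → ℂ) z - (χ : G → ℂ) 1) by
        field_simp]
      exact Blocks.memI_mul_left hM (Blocks.memR_of_isIntegral hM (Blocks.isIntegral_irr ψ 1)) hω
    set w : ℤ := (m : ℤ) * n - (charDegree (χ : G → ℂ) : ℤ) * charDegree (ψ : G → ℂ) with hw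
    have h2 : MemLocalIdeal M (((w.natAbs : ℕ) : ℂ)) := by
      rcases Int.natAbs_eq w with h | h
      · rw [h] at key; simpa using key
      · rw [h] at key; simpa using Blocks.memI_neg key
    exact Int.natCast_dvd.mpr ((Blocks.memI_natCast hM).mp h2)
  · -- singular part
    set N := Subgroup.normalizer (Subgroup.zpowers x : Set G)
    set e := (Subgroup.zpowers x).relIndex N
    have hf : IsClassFunction G (fun g => (χ : G → ℂ) g * conj ((ψ : G → ℂ) g)) := fun g h => by
      simp only [Blocks.irr_class χ g h, Blocks.irr_class ψ g h]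
    have h1 := sum_singular hp hx hC hf
    have h2 := Char.card_mul_classInner (χ : G → ℂ) (ψ : G → ℂ)
    rw [← Finset.sum_filter_add_sum_filter_not Finset.univ (fun g : G => p ∣ orderOf g), h1] at h2
    have h3 : (n : ℂ) * m = ∑ g ∈ Finset.univ.filter (fun g : G => ¬ p ∣ orderOf g),
        (χ : G → ℂ) g * conj ((ψ : G → ℂ) g) := by
      rw [← hn, classInner, ← mul_rotate, hm, Nat.cast_mul, Finset.mul_sum]
      rw [Finset.sum_filter]
      refine Finset.sum_congr rfl fun g _ => ?_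
      have hp0 : (p : ℂ) ≠ 0 := Nat.cast_ne_zero.mpr hp.ne_zero
      have hm0 : (m : ℂ) ≠ 0 := Nat.cast_ne_zero.mpr fun h0 => hm' (h0 ▸ dvd_zero p)
      split_ifs
      · simp
      · field_simp
    rw [← h3, Char.classInner_irr χ.2 ψ.2] at h2
    have hite : (if (χ : G → ℂ) = (ψ : G → ℂ) then (1 : ℂ) else 0) = if χ = ψ then 1 else 0 := by
      simp only [Subtype.coe_inj]
    rw [hite] at h2
    have hcard : (m : ℕ) = e * N.index := by
      apply Nat.eq_of_mul_eq_mul_left hp.pos
      rw [← hm, ← mul_assoc, ← card_normalizer_eq hp hx hC, Subgroup.card_mul_index]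
    have hp0 : (p : ℂ) ≠ 0 := Nat.cast_ne_zero.mpr hp.ne_zero
    have hidx : (N.index : ℂ) ≠ 0 := Nat.cast_ne_zero.mpr Subgroup.index_ne_zero_of_finite
    apply mul_left_cancel₀ hidx
    rw [hm, Nat.cast_mul, hcard, Nat.cast_mul] at h2
    linear_combination -h2

theorem exists_normalizer_generator :
    ∃ w : G, w ∈ Subgroup.normalizer (Subgroup.zpowers x : Set G) ∧
      w ^ (Subgroup.zpowers x).relIndex (Subgroup.normalizer (Subgroup.zpowers x : Set G)) = 1 ∧
      ∀ j : ℕ, w ^ j ∈ Subgroup.zpowers x →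
        (Subgroup.zpowers x).relIndex (Subgroup.normalizer (Subgroup.zpowers x : Set G)) ∣ j := by
  have := Fact.mk hp
  have hCP : Subgroup.centralizer (Subgroup.zpowers x : Set G) = Subgroup.zpowers x := by
    conv_lhs => rw [Subgroup.zpowers_eq_closure, Subgroup.centralizer_closure, hC]
  set P := Subgroup.zpowers x with hP
  set N := Subgroup.normalizer (P : Set G) with hN
  set e := P.relIndex N with he
  have hcard : Nat.card P = p := by rw [hP, Nat.card_zpowers, hx]
  haveI : IsCyclic P := isCyclic_of_prime_card hcard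
  let φ : N →* MulAut P := Subgroup.normalizerMonoidHom P
  have hker : φ.ker = P.subgroupOf N := by
    rw [Subgroup.normalizerMonoidHom_ker, hCP]
  haveI : NeZero (Nat.card P) := ⟨Nat.card_pos.ne'⟩
  haveI : IsCyclic (MulAut P) := by
    have e1 := IsCyclic.mulAutMulEquiv P
    rw [hcard] at e1
    exact isCyclic_of_surjective e1.symm.toMonoidHom e1.symm.surjective
  obtain ⟨⟨_, w, rfl⟩, hw⟩ := IsCyclic.exists_generator (α := φ.range)
  have hgen : ∀ n : N, ∃ i : ℤ, φ n = φ w ^ i := fun n => by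
    obtain ⟨i, hi⟩ := Subgroup.mem_zpowers_iff.mp (hw ⟨φ n, n, rfl⟩)
    exact ⟨i, by simpa using (congrArg Subtype.val hi).symm⟩
  have hord : orderOf (φ w) = e := by
    rw [← Nat.card_zpowers, show Subgroup.zpowers (φ w) = φ.range from le_antisymm
      (Subgroup.zpowers_le.mpr ⟨w, rfl⟩) (fun y ⟨n, hn⟩ => by
        obtain ⟨i, hi⟩ := hgen n; exact ⟨i, hi.symm.trans hn⟩),
      ← Subgroup.index_ker, hker]
    rfl
  have hwe : ((w : G) ^ e) ∈ P := by
    have h : w ^ e ∈ φ.ker := by rw [MonoidHom.mem_ker, map_pow, ← hord, pow_orderOf_eq_one]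
    rw [hker] at h
    simpa [Subgroup.mem_subgroupOf] using h
  refine ⟨(w : G) ^ p, (w ^ p).2, ?_, fun j hj => ?_⟩
  · rw [← pow_mul, mul_comm, pow_mul]
    have := congrArg Subtype.val (pow_card_eq_one' (x := (⟨_, hwe⟩ : P)))
    rw [hcard] at this
    simpa using this
  · have h : w ^ (p * j) ∈ φ.ker := by
      rw [hker, Subgroup.mem_subgroupOf]; simpa [pow_mul] using hj
    rw [MonoidHom.mem_ker, map_pow, ← orderOf_dvd_iff_pow_eq_one, hord] at h
    refine Nat.Coprime.dvd_of_dvd_mul_left ?_ h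
    have hd : e ∣ p - 1 := ⟨_, ((mul_comm _ _).trans (card_classes_mul hp hx hC)).symm⟩
    have h2 := hp.two_le
    exact (Nat.Coprime.coprime_dvd_left hd
      (Nat.coprime_of_lt_prime (by omega) (by omega) hp).symm)

end

end Cfsg.Agent.SelfCentPrime
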